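import Mathlib
import Groth.Prelude.Def_FSch3
import Groth.Agent.InfNbhdLib.Flat
import Groth.Agent.S0543
import Groth.Agent.S3869
import Groth.Agent.S3874
import Groth.Agent.FpqcDesc.Stalk

/-!
Flatness for the stalk rings of affine formal spectra.
-/

set_option autoImplicit false
set_option maxHeartbeats 1000000
universe u

namespace Groth.Agent.FSchStalkLib

open IsLocalRing TensorProduct

theorem quotientMap_flat {S P : Type u} [CommRing S] [CommRing P] (g : S →+* P) (hg : g.Flat) (K : Ideal S) :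
    (Ideal.quotientMap (K.map g) g Ideal.le_comap_map).Flat := by
  letI := g.toAlgebra
  haveI : Module.Flat S P := hg
  have h : Module.Flat (S ⧸ K) (P ⧸ K.map (algebraMap S P)) :=
    Module.Flat.of_linearEquiv (Algebra.TensorProduct.quotIdealMapEquivQuotTensor P K).toLinearEquiv
  rw [← RingHom.flat_algebraMap_iff] at h
  show (Ideal.quotientMap (K.map (algebraMap S P)) (algebraMap S P) Ideal.le_comap_map).Flat
  convert h using 1
  apply Ideal.Quotient.ringHom_ext
  ext x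
  rfl

theorem flat_of_adic {R S : Type u} [CommRing R] [CommRing S] [IsNoetherianRing R] [IsNoetherianRing S]
    [Algebra R S] (I : Ideal R) (hI : I.map (algebraMap R S) ≤ Ideal.jacobson ⊥)
    (h : ∀ n : ℕ, Module.Flat (R ⧸ I ^ n) ((R ⧸ I ^ n) ⊗[R] S)) : Module.Flat R S := by
  refine LocFlat.flat_of_forall_mem_range (S := S) I hI fun J z hz n => ?_
  let Jb : Submodule (R ⧸ I ^ n) (R ⧸ I ^ n) := J.map (Ideal.Quotient.mk (I ^ n))
  haveI := h n
  let π : J →ₗ[R] Jb :=
    LinearMap.codRestrict (Jb.restrictScalars R) ((Ideal.Quotient.mkₐ R (I ^ n)).toLinearMap ∘ₗ J.subtype)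
      fun a => Ideal.mem_map_of_mem _ a.2
  have hπ : Function.Surjective π := by
    rintro ⟨y, hy⟩
    obtain ⟨a, ha, rfl⟩ := (Ideal.mem_map_iff_of_surjective _ Ideal.Quotient.mk_surjective).mp hy
    exact ⟨⟨a, ha⟩, rfl⟩
  have hex : Function.Exact (Submodule.inclusion (inf_le_left : J ⊓ I ^ n ≤ J)) π := by
    intro a
    constructor
    · intro h0
      exact ⟨⟨a.1, a.2, Ideal.Quotient.eq_zero_iff_mem.mp (congrArg Subtype.val h0)⟩, rfl⟩
    · rintro ⟨b, rfl⟩
      exact Subtype.ext (Ideal.Quotient.eq_zero_iff_mem.mpr b.2.2)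
  refine (lTensor_exact S hex hπ z).mp ?_
  have hinj : Function.Injective ((Jb.subtype.restrictScalars R).lTensor S) :=
    (LinearMap.lTensor_inj_iff_rTensor_inj _ _).mpr
      (CAlgBasics.rTensor_injective_of_flat_baseChange (R ⧸ I ^ n) S Jb.subtype Jb.subtype_injective)
  apply hinj
  rw [map_zero, ← LinearMap.lTensor_comp_apply,
    show Jb.subtype.restrictScalars R ∘ₗ π = (Ideal.Quotient.mkₐ R (I ^ n)).toLinearMap ∘ₗ J.subtype from rfl,
    LinearMap.lTensor_comp_apply, hz, map_zero]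

theorem flat_iSup_range {C : Type u} [CommRing C] {ι : Type u} [Nonempty ι] {B : ι → Type u}
    [∀ i, CommRing (B i)] (g : ∀ i, B i →+* C) (hdir : Directed (· ≤ ·) fun i => (g i).range)
    (hg : ∀ i, (g i).Flat) : Module.Flat ↥(⨆ i, (g i).range) C := by
  classical
  refine Module.Flat.iff_forall_isTrivialRelation.2 fun {l} r x hrx => ?_
  have hr : ∀ j, ∃ i, (r j : C) ∈ (g i).range := fun j => (Subring.mem_iSup_of_directed hdir).1 (r j).2
  choose F hF using hr
  obtain ⟨i, hle⟩ := hdir.finset_le (Finset.univ.image F)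
  have hr' : ∀ j, ∃ a, g i a = (r j : C) :=
    fun j => hle (F j) (Finset.mem_image_of_mem F (Finset.mem_univ j)) (hF j)
  choose a ha using hr'
  letI := (g i).toAlgebra
  haveI : Module.Flat (B i) C := hg i
  have h0 : ∑ j, a j • x j = 0 := by
    rw [← hrx]
    refine Finset.sum_congr rfl fun j _ => ?_
    rw [Algebra.smul_def, RingHom.algebraMap_toAlgebra, ha]
    rfl
  obtain ⟨k, c, y, hxy, hc⟩ := Module.Flat.isTrivialRelation_of_sum_smul_eq_zero (R := B i) (M := C) (f := a) (x := x) (by simpa [Algebra.smul_def] using h0)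
  refine ⟨k, fun j m => ⟨g i (c j m), (Subring.mem_iSup_of_directed hdir).2 ⟨i, _, rfl⟩⟩, y,
    fun j => ?_, fun m => ?_⟩
  · refine (hxy j).trans (Finset.sum_congr rfl fun m _ => ?_)
    rw [Algebra.smul_def, RingHom.algebraMap_toAlgebra]
    rfl
  · apply Subtype.ext
    rw [AddSubmonoidClass.coe_finset_sum, ZeroMemClass.coe_zero, ← map_zero (g i), ← hc m, map_sum]
    refine Finset.sum_congr rfl fun j _ => ?_
    rw [map_mul, ha]
    rfl

variable (A : Type u) [CommRing A] (J : Ideal A) (𝔭 : Ideal A) [𝔭.IsPrime]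

theorem isLocalHom_evalₐ : IsLocalHom (AdicCompletion.evalₐ (J.map (algebraMap A (Localization.AtPrime 𝔭))) 1).toRingHom :=
  ⟨fun a ha => S3869.isUnit_of_evalOne _ a ha⟩

theorem isLocalRing_cAtPrime (hJ : J ≤ 𝔭) : IsLocalRing (FSch.cAtPrime A J 𝔭) := by
  set P := Localization.AtPrime 𝔭
  set JP := J.map (algebraMap A P)
  have hJP : JP ^ 1 ≤ IsLocalRing.maximalIdeal P := by
    rw [pow_one, ← Localization.AtPrime.map_eq_maximalIdeal]
    exact Ideal.map_mono hJ
  haveI : Nontrivial (P ⧸ JP ^ 1) := Ideal.Quotient.nontrivial_iff.mpr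
    (ne_top_of_le_ne_top (IsLocalRing.maximalIdeal.isMaximal P).ne_top hJP)
  haveI : IsLocalRing (P ⧸ JP ^ 1) := IsLocalRing.of_surjective' (Ideal.Quotient.mk _) Ideal.Quotient.mk_surjective
  haveI := isLocalHom_evalₐ A J 𝔭
  exact RingHom.domain_isLocalRing (AdicCompletion.evalₐ JP 1).toRingHom

theorem awayToAtPrime_flat (f : A) (hf : f ∉ 𝔭) : (FSch.awayToAtPrime A 𝔭 f hf).Flat := by
  letI := (FSch.awayToAtPrime A 𝔭 f hf).toAlgebra
  haveI : IsScalarTower A (Localization.Away f) (Localization.AtPrime 𝔭) :=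
    .of_algebraMap_eq fun x => (IsLocalization.Away.lift_eq (S := Localization.Away f) f (IsLocalization.map_units (Localization.AtPrime 𝔭) (⟨f, hf⟩ : 𝔭.primeCompl)) x).symm
  exact (Module.flat_iff_of_isLocalization (R := A) (Localization.Away f) (Submonoid.powers f)
    (M := Localization.AtPrime 𝔭)).2 (IsLocalization.flat _ 𝔭.primeCompl)

theorem cAwayToAtPrime_flat [IsNoetherianRing A] (hJ : J ≤ 𝔭) (f : A) (hf : f ∉ 𝔭) :
    (FSch.cAwayToAtPrime A J 𝔭 f hf).Flat := by
  haveI := isLocalRing_cAtPrime A J 𝔭 hJ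
  letI := (FSch.cAwayToAtPrime A J 𝔭 f hf).toAlgebra
  let S := Localization.Away f
  let P := Localization.AtPrime 𝔭
  let IS : Ideal S := J.map (algebraMap A S)
  let IP : Ideal P := J.map (algebraMap A P)
  haveI : IsNoetherianRing (FSch.cAway A J f) := Groth.Agent.S0543.result S IS
  haveI : IsNoetherianRing (FSch.cAtPrime A J 𝔭) := Groth.Agent.S0543.result P IP
  let g := FSch.cAwayToAtPrime A J 𝔭 f hf
  let I : Ideal (FSch.cAway A J f) := IS.map (algebraMap S (FSch.cAway A J f))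
  have hgo : g.comp (algebraMap S (FSch.cAway A J f)) =
      (algebraMap P (FSch.cAtPrime A J 𝔭)).comp (FSch.awayToAtPrime A 𝔭 f hf) := by
    apply RingHom.ext
    intro x
    refine AdicCompletion.ext_evalₐ (I := IP) fun n => ?_
    show AdicCompletion.evalₐ IP n (FSch.cAwayToAtPrime A J 𝔭 f hf (algebraMap S (FSch.cAway A J f) x)) =
      AdicCompletion.evalₐ IP n (algebraMap P (FSch.cAtPrime A J 𝔭) (FSch.awayToAtPrime A 𝔭 f hf x))
    rw [FSch.cAwayToAtPrime, Groth.Agent.S3869.evalₐ_complMap, AlgHom.commutes, AlgHom.commutes,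
      Ideal.Quotient.algebraMap_eq, Ideal.Quotient.algebraMap_eq, Ideal.quotientMap_mk]
  have hISP : IS.map (FSch.awayToAtPrime A 𝔭 f hf) = IP := by
    rw [Ideal.map_map]
    congr 1
    ext a
    exact IsLocalization.Away.lift_eq (S := Localization.Away f) f (IsLocalization.map_units (Localization.AtPrime 𝔭) (⟨f, hf⟩ : 𝔭.primeCompl)) a
  have hIg : ∀ n : ℕ, (I ^ n).map g = (IP.map (algebraMap P (FSch.cAtPrime A J 𝔭))) ^ n := by
    intro n
    rw [Ideal.map_pow, Ideal.map_map, hgo, ← Ideal.map_map, hISP]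
  have hkS : ∀ n, RingHom.ker (AdicCompletion.evalₐ IS n).toRingHom = I ^ n :=
    fun n => Groth.Agent.S3874.ker_evalₐ IS IS.fg_of_isNoetherianRing n
  have hkP : ∀ n, RingHom.ker (AdicCompletion.evalₐ IP n).toRingHom = (IP.map (algebraMap P (FSch.cAtPrime A J 𝔭))) ^ n :=
    fun n => Groth.Agent.S3874.ker_evalₐ IP IP.fg_of_isNoetherianRing n
  show Module.Flat (FSch.cAway A J f) (FSch.cAtPrime A J 𝔭)
  refine flat_of_adic I ?_ fun n => ?_
  · rw [IsLocalRing.jacobson_eq_maximalIdeal ⊥ bot_ne_top]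
    show I.map g ≤ _
    have h1 := hIg 1
    rw [pow_one, pow_one] at h1
    rw [h1, Ideal.map_le_iff_le_comap]
    intro x hx
    rw [Ideal.mem_comap, mem_maximalIdeal, mem_nonunits_iff]
    intro hu
    have h2 := hu.map (AdicCompletion.evalₐ IP 1).toRingHom
    have h3 : (AdicCompletion.evalₐ IP 1).toRingHom (algebraMap P _ x) = 0 := by
      show AdicCompletion.evalₐ IP 1 (algebraMap P _ x) = 0
      rw [AlgHom.commutes, Ideal.Quotient.algebraMap_eq, Ideal.Quotient.eq_zero_iff_mem, pow_one]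
      exact hx
    rw [h3, isUnit_zero_iff] at h2
    have h4 := Ideal.Quotient.zero_eq_one_iff.1 h2
    rw [pow_one] at h4
    have h5 : IP ≤ maximalIdeal P := by
      show J.map _ ≤ _
      rw [← Localization.AtPrime.map_eq_maximalIdeal]; exact Ideal.map_mono hJ
    exact (IsLocalRing.maximalIdeal.isMaximal P).ne_top (top_le_iff.1 (h4 ▸ h5))
  · refine (Module.Flat.equiv_iff (Algebra.TensorProduct.quotIdealMapEquivQuotTensor _ (I ^ n)).toLinearEquiv).1 ?_
    rw [← RingHom.flat_algebraMap_iff]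
    show (Ideal.quotientMap ((I ^ n).map g) g Ideal.le_comap_map).Flat
    let e : FSch.cAway A J f ⧸ I ^ n ≃+* S ⧸ IS ^ n :=
      (Ideal.quotEquivOfEq (hkS n).symm).trans
        (RingHom.quotientKerEquivOfSurjective (f := (AdicCompletion.evalₐ IS n).toRingHom)
          (AdicCompletion.surjective_evalₐ IS n))
    let e' : FSch.cAtPrime A J 𝔭 ⧸ (I ^ n).map g ≃+* P ⧸ (IS ^ n).map (FSch.awayToAtPrime A 𝔭 f hf) :=
      ((Ideal.quotEquivOfEq ((hIg n).trans (hkP n).symm)).trans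
        (RingHom.quotientKerEquivOfSurjective (f := (AdicCompletion.evalₐ IP n).toRingHom)
          (AdicCompletion.surjective_evalₐ IP n))).trans
        (Ideal.quotEquivOfEq (by rw [Ideal.map_pow, hISP]))
    refine (RingHom.Flat.comp_iff_of_bijective_left (g := e'.toRingHom) e'.bijective).1 ?_
    have hc : e'.toRingHom.comp (Ideal.quotientMap ((I ^ n).map g) g Ideal.le_comap_map) =
        (Ideal.quotientMap _ (FSch.awayToAtPrime A 𝔭 f hf) Ideal.le_comap_map).comp e.toRingHom := by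
      apply Ideal.Quotient.ringHom_ext
      ext x
      obtain ⟨z, hz⟩ := Ideal.Quotient.mk_surjective (AdicCompletion.evalₐ IS n x)
      show Ideal.quotEquivOfEq (show IP ^ n = (IS ^ n).map (FSch.awayToAtPrime A 𝔭 f hf) by rw [Ideal.map_pow, hISP])
          (AdicCompletion.evalₐ IP n (g x)) =
        Ideal.quotientMap _ _ Ideal.le_comap_map (AdicCompletion.evalₐ IS n x)
      rw [show g x = FSch.complMap IS IP (FSch.awayToAtPrime A 𝔭 f hf) (FSch.map_awayToAtPrime_le A J 𝔭 f hf) x from rfl, Groth.Agent.S3869.evalₐ_complMap, ← hz,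
        Ideal.quotientMap_mk, Ideal.quotientMap_mk]
      rfl
    exact hc ▸ (RingHom.Flat.of_bijective (f := e.toRingHom) e.bijective).comp
      (quotientMap_flat _ (awayToAtPrime_flat A 𝔭 f hf) _)

theorem directed_ranges :
    Directed (· ≤ ·) (fun f : {f : A // f ∉ 𝔭} => (FSch.cAwayToAtPrime A J 𝔭 f.1 f.2).range) := by
  rintro ⟨f, hf⟩ ⟨g, hg⟩
  refine ⟨⟨f * g, Ideal.IsPrime.mul_notMem ‹_› hf hg⟩, ?_, ?_⟩
  · rintro _ ⟨a, rfl⟩
    obtain ⟨b, hb, -⟩ := S3869.exists_lift J 𝔭 f g hf hg a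
    exact ⟨b, hb⟩
  · rintro _ ⟨a, rfl⟩
    obtain ⟨b, hb, -⟩ := S3869.exists_lift J 𝔭 g f hg hf a
    have : ∀ (h : g * f ∉ 𝔭) (h' : f * g ∉ 𝔭), (FSch.cAwayToAtPrime A J 𝔭 (g * f) h).range ≤
        (FSch.cAwayToAtPrime A J 𝔭 (f * g) h').range := by
      rw [mul_comm g f]
      exact fun h h' => le_rfl
    exact this _ _ ⟨b, hb⟩

theorem faithfullyFlat_stalk [IsNoetherianRing A] (hJ : J ≤ 𝔭) :
    Module.FaithfullyFlat (FSch.stalkSubring A J 𝔭) (FSch.cAtPrime A J 𝔭) := by
  classical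
  haveI := isLocalRing_cAtPrime A J 𝔭 hJ
  obtain ⟨h1, h2⟩ := S3869.result A J 𝔭 hJ
  haveI := h1
  haveI : IsLocalHom (algebraMap (FSch.stalkSubring A J 𝔭) (FSch.cAtPrime A J 𝔭)) := h2
  haveI : Nonempty {f : A // f ∉ 𝔭} := ⟨⟨1, Ideal.IsPrime.one_notMem ‹_›⟩⟩
  haveI : Module.Flat (FSch.stalkSubring A J 𝔭) (FSch.cAtPrime A J 𝔭) :=
    flat_iSup_range (fun f : {f : A // f ∉ 𝔭} => FSch.cAwayToAtPrime A J 𝔭 f.1 f.2)
      (directed_ranges A J 𝔭) fun f => cAwayToAtPrime_flat A J 𝔭 hJ f.1 f.2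
  exact Module.FaithfullyFlat.of_flat_of_isLocalHom

end Groth.Agent.FSchStalkLib
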